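import Mathlib.LinearAlgebra.FiniteDimensional.Lemmas
import Mathlib.Algebra.Algebra.Subalgebra.Basic
import Mathlib.Algebra.Algebra.Operations
import Mathlib.Algebra.Algebra.Bilinear
import Mathlib.LinearAlgebra.Dimension.Constructions
import Mathlib.GroupTheory.Perm.Basic
import Mathlib.Data.Fintype.EquivFin

/-! The centraliser of an operator of finite order that permutes a spanning family in regular orbits. -/

set_option autoImplicit false

namespace Cfsg.Agent.Lib.ShultGross

variable {k : Type*} [Field k] {E : Type*} [Ring E] [Algebra k E] [FiniteDimensional k E]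

theorem mul_finrank_centralizer_le {p : ℕ} (hp : 0 < p) (hp0 : (p : k) ≠ 0) {F G : E} (hGF : G * F = 1)
    (hF : F ^ p = 1) {X : Type*} [Fintype X] (σ : Equiv.Perm X) (x₀ : X) (hσp : σ ^ p = 1)
    (hfree : ∀ (i : ℕ) (x : X), 0 < i → i < p → (σ ^ i) x = x → x = x₀) (hx₀ : σ x₀ = x₀) (T : X → E)
    (hT : ∀ x, ∃ c : k, F * T x * G = c • T (σ x)) (hspan : Submodule.span k (Set.range T) = ⊤) :
    p * Module.finrank k (Subalgebra.centralizer k ({F} : Set E)) ≤ Fintype.card X - 1 + p := by
  classical
  have hFG : F * G = 1 := by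
    have h1 : F * F ^ (p - 1) = 1 := by rw [← pow_succ', Nat.sub_add_cancel hp, hF]
    have h2 : G = F ^ (p - 1) := by
      calc G = G * (F * F ^ (p - 1)) := by rw [h1, mul_one]
        _ = F ^ (p - 1) := by rw [← mul_assoc, hGF, one_mul]
    rw [h2, h1]
  have hFGpow : ∀ i, F ^ i * G ^ i = 1 := fun i => by
    induction i with
    | zero => simp
    | succ i ih => rw [pow_succ, pow_succ', mul_assoc (F ^ i), ← mul_assoc F, hFG, one_mul, ih]
  have hGp : G ^ p = 1 := by have := hFGpow p; rwa [hF, one_mul] at this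
  let P : E →ₗ[k] E :=
    (p : k)⁻¹ • ∑ i ∈ Finset.range p, LinearMap.mulLeftRight k (F ^ i, G ^ i)
  have hP : ∀ M, P M = (p : k)⁻¹ • ∑ i ∈ Finset.range p, F ^ i * M * G ^ i := fun M => by
    simp [P, LinearMap.mulLeftRight_apply]
  have hPconj : ∀ M, P (F * M * G) = P M := by
    intro M
    rw [hP, hP]
    congr 1
    have := Finset.sum_range_succ' (fun i => F ^ i * M * G ^ i) p
    rw [Finset.sum_range_succ, hF, hGp] at this
    simp only [pow_zero] at this
    rw [add_right_cancel this]
    refine Finset.sum_congr rfl fun i _ => ?_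
    rw [pow_succ, pow_succ']; simp only [mul_assoc]
  have horbit : ∀ (i : ℕ) (x : X), ∃ c : k, P (T x) = c • P (T ((σ ^ i) x)) := by
    intro i
    induction i with
    | zero => exact fun x => ⟨1, by simp⟩
    | succ i ih =>
      intro x
      obtain ⟨c, hc⟩ := hT x
      obtain ⟨d, hd⟩ := ih (σ x)
      refine ⟨c * d, ?_⟩
      rw [← hPconj (T x), hc, map_smul, hd, smul_smul, pow_succ, Equiv.Perm.mul_apply]
  let ι := Fintype.equivFin X
  let R : Finset X := Finset.univ.filter fun x => ∀ i : ℕ, ι x ≤ ι ((σ ^ i) x)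
  have hmod : ∀ (i : ℕ) (x : X), (σ ^ i) x = (σ ^ (i % p)) x := fun i x => by
    rw [← pow_eq_pow_mod i hσp]
  have hrep : ∀ x, ∃ i : ℕ, (σ ^ i) x ∈ R := by
    intro x
    obtain ⟨i, -, hi⟩ := (Finset.range p).exists_min_image (fun i => ι ((σ ^ i) x))
      ⟨0, Finset.mem_range.mpr hp⟩
    refine ⟨i, Finset.mem_filter.mpr ⟨Finset.mem_univ _, fun j => ?_⟩⟩
    rw [← Equiv.Perm.mul_apply, ← pow_add, hmod (j + i)]
    exact hi _ (Finset.mem_range.mpr (Nat.mod_lt _ hp))
  have hcent : Subalgebra.toSubmodule (Subalgebra.centralizer k ({F} : Set E)) ≤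
      Submodule.span k ((fun x => P (T x)) '' (R : Set X)) := by
    intro M hM
    have hFM : F * M = M * F := Subalgebra.mem_centralizer_iff k |>.mp hM F rfl
    have hPM : P M = M := by
      have h1 : ∀ i ∈ Finset.range p, F ^ i * M * G ^ i = M := fun i _ => by
        rw [(Commute.pow_left (hFM : Commute F M) i).eq, mul_assoc, hFGpow, mul_one]
      rw [hP, Finset.sum_congr rfl h1, Finset.sum_const, Finset.card_range, ← Nat.cast_smul_eq_nsmul k,
        smul_smul, inv_mul_cancel₀ hp0, one_smul]
    rw [← hPM]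
    have hle : Submodule.map P ⊤ ≤ Submodule.span k ((fun x => P (T x)) '' (R : Set X)) := by
      rw [← hspan, Submodule.map_span, Submodule.span_le]
      rintro _ ⟨_, ⟨x, rfl⟩, rfl⟩
      obtain ⟨i, hi⟩ := hrep x
      obtain ⟨c, hc⟩ := horbit i x
      rw [hc]
      exact Submodule.smul_mem _ _ (Submodule.subset_span ⟨_, hi, rfl⟩)
    exact hle (Submodule.mem_map_of_mem Submodule.mem_top)
  have hdim : Module.finrank k (Subalgebra.centralizer k ({F} : Set E)) ≤ R.card := by
    refine (Submodule.finrank_mono hcent).trans ?_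
    rw [← Finset.coe_image]
    exact (finrank_span_le_card _).trans (by simpa using Finset.card_image_le)
  have hfix : ∀ (i : ℕ) (x : X), i < p → i ≠ 0 → (σ ^ i) x = x → x = x₀ := fun i x hi hi0 =>
    hfree i x (Nat.pos_of_ne_zero hi0) hi
  have hne : ∀ (i : ℕ) (x : X), x ≠ x₀ → (σ ^ i) x ≠ x₀ := by
    intro i x hx h
    apply hx
    have h0 : ∀ i : ℕ, (σ ^ i) x₀ = x₀ := fun i => by
      induction i with
      | zero => rfl
      | succ i ih => rw [pow_succ', Equiv.Perm.mul_apply, ih, hx₀]
    exact (σ ^ i).injective (h.trans (h0 i).symm)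
  have hcard : p * (R.erase x₀).card ≤ Fintype.card X - 1 := by
    rw [Nat.mul_comm, ← Finset.card_range p, ← Finset.card_product, ← Finset.card_univ,
      ← Finset.card_erase_of_mem (Finset.mem_univ x₀)]
    refine Finset.card_le_card_of_injOn (fun a => (σ ^ a.2) a.1) ?_ ?_
    · intro a ha
      simp only [Finset.coe_product, Set.mem_prod, Finset.coe_erase, Set.mem_diff,
        Set.mem_singleton_iff] at ha
      simp only [Finset.coe_erase, Finset.coe_univ, Set.mem_diff, Set.mem_univ, Set.mem_singleton_iff, true_and]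
      exact hne _ _ ha.1.2
    · rintro ⟨x, i⟩ ha ⟨y, j⟩ hb h
      simp only [Finset.coe_product, Set.mem_prod, Finset.mem_coe, Finset.mem_erase, Finset.mem_range,
        R, Finset.mem_filter, Finset.mem_univ, true_and] at ha hb
      dsimp only at h
      have hxy : ι x ≤ ι y := by
        have h1 := ha.1.2 (i + (p - j))
        rwa [pow_add, (Commute.pow_pow_self σ i (p - j)).eq, Equiv.Perm.mul_apply, h,
          ← Equiv.Perm.mul_apply, ← pow_add, Nat.sub_add_cancel hb.2.le, hσp] at h1
      have hyx : ι y ≤ ι x := by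
        have h1 := hb.1.2 (j + (p - i))
        rwa [pow_add, (Commute.pow_pow_self σ j (p - i)).eq, Equiv.Perm.mul_apply, ← h,
          ← Equiv.Perm.mul_apply, ← pow_add, Nat.sub_add_cancel ha.2.le, hσp] at h1
      have hxy' : x = y := ι.injective (le_antisymm hxy hyx)
      subst hxy'
      rcases lt_trichotomy i j with hij | hij | hij
      · exfalso
        refine ha.1.1 (hfix (j - i) x (by omega) (by omega) ((σ ^ i).injective ?_))
        rw [← Equiv.Perm.mul_apply, ← pow_add, Nat.add_sub_cancel' hij.le]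
        exact h.symm
      · rw [hij]
      · exfalso
        refine ha.1.1 (hfix (i - j) x (by omega) (by omega) ((σ ^ j).injective ?_))
        rw [← Equiv.Perm.mul_apply, ← pow_add, Nat.add_sub_cancel' hij.le]
        exact h
  have hR : R.card ≤ (R.erase x₀).card + 1 := by
    have := Finset.pred_card_le_card_erase (s := R) (a := x₀); omega
  calc p * Module.finrank k (Subalgebra.centralizer k ({F} : Set E)) ≤ p * R.card :=
        Nat.mul_le_mul_left _ hdim
    _ ≤ p * ((R.erase x₀).card + 1) := Nat.mul_le_mul_left _ hR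
    _ ≤ Fintype.card X - 1 + p := by rw [mul_add, mul_one]; omega

end Cfsg.Agent.Lib.ShultGross
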